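import Mathlib
import Cfsg.Agent.Spor.Ru.Code

/-! Enumeration of the binary code of the Conway–Wales lattice. -/

set_option autoImplicit false
set_option maxRecDepth 100000

namespace Cfsg.Agent.Spor.MRu

theorem part0 : part 0 = true := by decide +kernel

theorem part1 : part 1 = true := by decide +kernel

theorem part2 : part 2 = true := by decide +kernel

theorem part3 : part 3 = true := by decide +kernel

end Cfsg.Agent.Spor.MRu
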